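import Mathlib.Algebra.Homology.DerivedCategory.Ext.Map
import Mathlib.Algebra.Homology.DerivedCategory.Ext.ExactSequences
import Mathlib.Algebra.Homology.DerivedCategory.Ext.EnoughInjectives
import Mathlib.Algebra.Homology.ShortComplex.ExactFunctor

/-!
# The map `Ext^n(M, Y) → Ext^n(N, T Y)` induced by an exact functor `T` and `θ : N ⟶ T M`
-/

universe v v' u u'

open CategoryTheory CategoryTheory.Limits CategoryTheory.Abelian

noncomputable section

namespace Groth.Agent.ExtHom

variable {A : Type u} [Category.{v} A] [Abelian A] [HasExt.{v} A]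
  {B : Type u'} [Category.{v'} B] [Abelian B] [HasExt.{v'} B]
  (T : A ⥤ B) [T.Additive] [PreservesFiniteLimits T] [PreservesFiniteColimits T]
  {M : A} {N : B} (θ : N ⟶ T.obj M)

/-- `x ↦ θ ≫ T x`. -/
def extMap (Y : A) (n : ℕ) : Ext M Y n →+ Ext N (T.obj Y) n :=
  AddMonoidHom.mk' (fun x => (Ext.mk₀ θ).comp (x.mapExactFunctor T) (zero_add n))
    fun x y => by rw [Ext.mapExactFunctor_add, Ext.comp_add]

theorem extMap_comp {Y Z : A} {a b c : ℕ} (x : Ext M Y a) (β : Ext Y Z b) (h : a + b = c) :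
    extMap T θ Z c (x.comp β h) = (extMap T θ Y a x).comp (β.mapExactFunctor T) h := by
  show (Ext.mk₀ θ).comp ((x.comp β h).mapExactFunctor T) (zero_add c) = _
  rw [Ext.mapExactFunctor_comp]
  exact (Ext.comp_assoc _ _ _ (zero_add a) h (by omega)).symm

theorem extMap_comp_mk₀ {Y Z : A} {n : ℕ} (x : Ext M Y n) (g : Y ⟶ Z) :
    extMap T θ Z n (x.comp (Ext.mk₀ g) (add_zero n)) =
      (extMap T θ Y n x).comp (Ext.mk₀ (T.map g)) (add_zero n) := by
  rw [extMap_comp, Ext.mapExactFunctor_mk₀]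

theorem extMap_bijective [EnoughInjectives A]
    (hθ : ∀ X : A, Function.Bijective (fun a : M ⟶ X => θ ≫ T.map a))
    (hI : ∀ I : A, Injective I → ∀ q : ℕ, Subsingleton (Ext N (T.obj I) (q + 1))) :
    ∀ (n : ℕ) (Y : A), Function.Bijective (extMap T θ Y n) := by
  intro n
  induction n with
  | zero =>
    intro Y
    have e : ∀ f : M ⟶ Y, extMap T θ Y 0 (Ext.mk₀ f) = Ext.mk₀ (θ ≫ T.map f) := fun f => by
      show (Ext.mk₀ θ).comp ((Ext.mk₀ f).mapExactFunctor T) (zero_add 0) = _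
      rw [Ext.mapExactFunctor_mk₀, Ext.mk₀_comp_mk₀]
    refine (Function.Bijective.of_comp_iff _ (Ext.mk₀_bijective M Y)).1 ?_
    rw [show extMap T θ Y 0 ∘ Ext.mk₀ = Ext.mk₀ ∘ fun f => θ ≫ T.map f from funext e]
    exact (Ext.mk₀_bijective _ _).comp (hθ Y)
  | succ n ih =>
    intro Y
    let I : InjectivePresentation Y := Classical.arbitrary _
    let S := ShortComplex.mk _ _ (cokernel.condition I.f)
    have hS : S.ShortExact := { exact := ShortComplex.exact_cokernel I.f }
    have hS' := hS.map_of_exact T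
    have hSe : ∀ z : Ext M S.X₃ n, extMap T θ Y (n + 1) (z.comp hS.extClass rfl) =
        (extMap T θ S.X₃ n z).comp hS'.extClass rfl := fun z => by
      rw [extMap_comp, Ext.mapExactFunctor_extClass]
      rfl
    refine ⟨(injective_iff_map_eq_zero _).2 fun x hx => ?_, fun y => ?_⟩
    · have : Injective S.X₂ := I.injective
      obtain ⟨z, rfl⟩ := Ext.covariant_sequence_exact₁ _ hS x (Ext.eq_zero_of_injective _) rfl
      rw [hSe] at hx
      obtain ⟨w, hw⟩ := Ext.covariant_sequence_exact₃ _ hS' _ rfl hx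
      obtain ⟨v, rfl⟩ := (ih S.X₂).2 w
      have hv : v.comp (Ext.mk₀ S.g) (add_zero n) = z := (ih S.X₃).1 ((extMap_comp_mk₀ T θ v S.g).trans hw)
      rw [← hv, Ext.comp_assoc_of_second_deg_zero, hS.comp_extClass, Ext.comp_zero]
    · have : Subsingleton (Ext N (S.map T).X₂ (n + 1)) := hI I.J I.injective n
      obtain ⟨w, rfl⟩ := Ext.covariant_sequence_exact₁ _ hS' y (Subsingleton.elim _ _) rfl
      obtain ⟨z, rfl⟩ := (ih S.X₃).2 w
      exact ⟨_, hSe z⟩

end Groth.Agent.ExtHom
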