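import Groth.Agent.KFlat.StalkTensor
import Groth.Prelude.Def_DCoh4
import Groth.Prelude.Def_KLin

/-!
# The internal Hom is linear over the global functions
-/

universe u

open CategoryTheory CategoryTheory.Limits AlgebraicGeometry MonoidalCategory Opposite
open Groth.Agent.KFlat.StalkTensor

noncomputable section

namespace Groth.Agent.ExtHom

variable {X : Scheme.{u}}

/-- Morphisms out of a tensor product are determined on pure tensors. -/
theorem tensM_hom_ext {M N P : X.Modules} {f g : tensM M N ⟶ P}
    (h : ∀ (U : X.Opens) (m : Γ(M, U)) (n : Γ(N, U)), f.app U (tmulSec U m n) = g.app U (tmulSec U m n)) :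
    f = g := by
  refine ((KFlat.preAdj X.sheaf).homEquiv _ _).injective ?_
  refine PresheafOfModules.hom_ext fun U => ModuleCat.hom_ext (LinearMap.ext fun z => ?_)
  induction z using TensorProduct.induction_on with
  | zero => exact (map_zero _).trans (map_zero _).symm
  | tmul m n => exact h U.unop m n
  | add a b ha hb => exact (map_add _ _ _).trans ((congrArg₂ (· + ·) ha hb).trans (map_add _ _ _).symm)

/-- The tensor product of a morphism on pure tensors. -/
theorem tensorBi_map_tmulSec (F : X.Modules) {N N' : X.Modules} (φ : N ⟶ N') (U : X.Opens)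
    (m : Γ(F, U)) (n : Γ(N, U)) :
    (((DCoh.tensorBi (X := X)).obj F).map φ).app U (tmulSec U m n) = tmulSec U m (φ.app U n) :=
  (congr(($((KFlat.preAdj X.sheaf).unit.naturality
    ((ModSite.toPre X.sheaf).obj F ◁ (ModSite.toPre X.sheaf).map φ))).app (op U)
    ((show ((ModSite.toPre X.sheaf).obj F).obj (op U) from m) ⊗ₜ[X.sheaf.obj.obj (op U)]
      (show ((ModSite.toPre X.sheaf).obj N).obj (op U) from n)))).symm

/-- Tensoring commutes with multiplication by global functions. -/
theorem tensorBi_map_smulModΓ (F N : X.Modules) (r : Coh.Γtop X) :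
    ((DCoh.tensorBi (X := X)).obj F).map (Formal.smulModΓ N r) =
      Formal.smulModΓ (((DCoh.tensorBi (X := X)).obj F).obj N) r :=
  tensM_hom_ext fun U m n => (tensorBi_map_tmulSec F (Formal.smulModΓ N r) U m n).trans
    ((tmulSec_smul_right U (X.presheaf.map (homOfLE (le_top : U ≤ ⊤)).op r) m n).trans
      (KLin.smulModΓ_app_apply _ r U _).symm)

/-- The internal Hom commutes with multiplication by global functions. -/
theorem sheafHom_map_smulModΓ (F M : X.Modules) [DCoh.HasSheafHom F] (r : Coh.Γtop X) :
    (DCoh.sheafHom F).map (Formal.smulModΓ M r) =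
      Formal.smulModΓ ((DCoh.sheafHom F).obj M) r := by
  refine ((DCoh.sheafHomAdj F).homEquiv _ _).symm.injective ?_
  rw [Adjunction.homEquiv_counit, Adjunction.homEquiv_counit, Adjunction.counit_naturality,
    tensorBi_map_smulModΓ, KLin.comp_smulModΓ]

/-- Multiplication by a global function, seen on the abelian sheaf. -/
theorem toSheaf_map_smulModΓ (M : X.Modules) (r : Coh.Γtop X) :
    (SheafOfModules.toSheaf X.ringCatSheaf).map (Formal.smulModΓ M r) = Coh.smulAb M r := rfl

end Groth.Agent.ExtHom
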