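import Groth.Agent.ExtHom.Exact
import Groth.Agent.ExtHom.Linear
import Groth.Agent.ExtHom.ExtMap
import Groth.Agent.S0491
import Groth.Agent.ModShf.GrothAb
import Mathlib.Algebra.Homology.DerivedCategory.Ext.Linear

/-!
# `Ext^n(F, M) ≅ H^n(X, ℋom(F, M))` linearly, for `F` finite locally free
-/

universe u

open CategoryTheory CategoryTheory.Limits CategoryTheory.Abelian AlgebraicGeometry

noncomputable section

namespace Groth.Agent.ExtHom

set_option maxHeartbeats 1000000
set_option synthInstance.maxHeartbeats 400000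

/-- The unit section as a morphism of abelian sheaves out of the constant sheaf `ℤ`. -/
theorem exists_constUnit {C : Type u} [SmallCategory C] (J : GrothendieckTopology C)
    (R : Sheaf J RingCat.{u}) :
    ∃ θ : (constantSheaf J AddCommGrpCat.{u}).obj (AddCommGrpCat.of (ULift.{u} ℤ)) ⟶
        (SheafOfModules.toSheaf R).obj (SheafOfModules.unit R),
      ∀ X : SheafOfModules.{u} R, Function.Bijective
        (fun f : SheafOfModules.unit R ⟶ X => θ ≫ (SheafOfModules.toSheaf R).map f) := by
  let φ₀ : (Functor.const Cᵒᵖ).obj (AddCommGrpCat.of (ULift.{u} ℤ)) ⟶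
      ((SheafOfModules.toSheaf R).obj (SheafOfModules.unit R)).obj :=
    { app := fun V => AddCommGrpCat.ofHom ((AddMonoidHom.mk' (fun k : ℤ => k • (1 : R.obj.obj V))
          (fun a b => add_zsmul (1 : R.obj.obj V) a b)).comp AddEquiv.ulift.toAddMonoidHom)
      naturality := fun V W g => by
        ext k
        exact ((map_zsmul (R.obj.map g).hom k.down (1 : R.obj.obj V)).trans
          (congrArg (k.down • ·) (map_one (R.obj.map g).hom))).symm }
  let a := sheafificationAdjunction J AddCommGrpCat.{u}
  let θ : (constantSheaf J AddCommGrpCat.{u}).obj (AddCommGrpCat.of (ULift.{u} ℤ)) ⟶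
      (SheafOfModules.toSheaf R).obj (SheafOfModules.unit R) := (a.homEquiv _ _).symm φ₀
  have hθ : ∀ X : SheafOfModules.{u} R, Function.Bijective
      (fun f : SheafOfModules.unit R ⟶ X => θ ≫ (SheafOfModules.toSheaf R).map f) := by
    intro X
    have hcomp : ∀ f : SheafOfModules.unit R ⟶ X,
        a.homEquiv _ _ (θ ≫ (SheafOfModules.toSheaf R).map f) =
          φ₀ ≫ ((SheafOfModules.toSheaf R).map f).hom := fun f => by
      rw [a.homEquiv_naturality_right, Equiv.apply_symm_apply]
      rfl
    have happ : ∀ (f : SheafOfModules.unit R ⟶ X) (V : Cᵒᵖ),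
        (φ₀ ≫ ((SheafOfModules.toSheaf R).map f).hom).app V (ULift.up (1 : ℤ)) =
          (X.unitHomEquiv f).val V := fun f V =>
      congrArg (f.val.app V) (one_zsmul (1 : R.obj.obj V))
    refine ⟨fun f g h => X.unitHomEquiv.injective (Subtype.ext (funext fun V => ?_)), fun b => ?_⟩
    · rw [← happ, ← happ, ← hcomp, ← hcomp]
      exact congrArg (fun t => (a.homEquiv _ _ t).app V (ULift.up (1 : ℤ))) h
    · let t := a.homEquiv _ _ b
      let s : X.sections := ⟨fun V => t.app V (ULift.up (1 : ℤ)), fun {V W} g =>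
        (NatTrans.naturality_apply t g (ULift.up (1 : ℤ))).symm⟩
      refine ⟨X.unitHomEquiv.symm s, (a.homEquiv _ _).injective ?_⟩
      refine (hcomp _).trans ?_
      refine NatTrans.ext (funext fun V => AddCommGrpCat.hom_ext ?_)
      refine AddMonoidHom.ext fun k => ?_
      have hk : k = k.down • (ULift.up (1 : ℤ) : ULift.{u} ℤ) :=
        ULift.ext (x := (k : ULift.{u} ℤ)) (y := k.down • ULift.up (1 : ℤ))
          (zsmul_one (R := ℤ) k.down).symm
      rw [hk, map_zsmul, map_zsmul]
      refine congrArg (k.down • ·) ((happ (X.unitHomEquiv.symm s) V).trans ?_)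
      rw [Equiv.apply_symm_apply]
  exact ⟨θ, hθ⟩

variable {X : Scheme.{u}}

/-- Injective modules are acyclic. -/
theorem subsingleton_HH_injective (I : X.Modules) (hI : Injective I) (q : ℕ) :
    Subsingleton (Coh.HH X I (q + 1)) := by
  have : EnoughInjectives X.Modules := ModShf.schemeModulesEnoughInjectives X
  have : HasExt.{u} X.Modules := hasExt_of_enoughInjectives.{u} _
  have : Nonempty (Abelian.Ext (Coh.structureModule X) I (q + 1) ≃+ Coh.HH X I (q + 1)) :=
    @Groth.Agent.S0491.result _ _ (Opens.grothendieckTopology X) X.ringCatSheaf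
      ‹HasExt.{u} X.Modules› I (q + 1)
  have h : Subsingleton (Abelian.Ext (Coh.structureModule X) I (q + 1)) :=
    Ext.subsingleton_of_injective _ _ _
  exact this.elim fun e => e.symm.toEquiv.subsingleton

/-- `F ⊗ O ≅ F`. -/
def tensorUnitIso (F : X.Modules) :
    ((DCoh.tensorBi (X := X)).obj F).obj (Coh.structureModule X) ≅ F :=
  ChgRings.commIso F (Coh.structureModule X) ≪≫ KFlat.TensorLocFree.unitTensorIso F

variable (k : Type u) [CommRing k] [X.Over (Spec (CommRingCat.of k))]

theorem nonempty_ext_linearEquiv [HasExt.{u} X.Modules] {F : X.Modules}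
    (hF : FlatMod.IsFinLocFree F) [DCoh.HasSheafHom F] (M : X.Modules) (j : ℕ) :
    Nonempty (Ext F M j ≃ₗ[k] Coh.HH X ((DCoh.sheafHom F).obj M) j) := by
  have : EnoughInjectives X.Modules := ModShf.schemeModulesEnoughInjectives X
  have := additive_sheafHom F
  have := preservesFiniteLimits_sheafHom F
  have := preservesFiniteColimits_sheafHom hF
  let S : X.Modules ⥤ Sheaf (Opens.grothendieckTopology X) AddCommGrpCat.{u} :=
    SheafOfModules.toSheaf.{u} X.ringCatSheaf
  have : S.Additive := inferInstanceAs (SheafOfModules.toSheaf.{u} X.ringCatSheaf).Additive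
  have : PreservesFiniteLimits S :=
    inferInstanceAs (PreservesFiniteLimits (SheafOfModules.toSheaf.{u} X.ringCatSheaf))
  let T : X.Modules ⥤ Sheaf (Opens.grothendieckTopology X) AddCommGrpCat.{u} := DCoh.sheafHom F ⋙ S
  have : PreservesFiniteColimits S := ⟨fun J _ _ => inferInstance⟩
  have : T.Additive := inferInstanceAs (DCoh.sheafHom F ⋙ S).Additive
  have : PreservesFiniteLimits T := comp_preservesFiniteLimits _ _
  have : PreservesFiniteColimits T := comp_preservesFiniteColimits _ _
  obtain ⟨θ₀, hθ₀⟩ := exists_constUnit (Opens.grothendieckTopology X) X.ringCatSheaf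
  let η := ((DCoh.sheafHomAdj F).homEquiv (Coh.structureModule X) F) (tensorUnitIso F).hom
  let θ := θ₀ ≫ S.map η
  have hθ : ∀ Y : X.Modules, Function.Bijective (fun a : F ⟶ Y => θ ≫ T.map a) := fun Y => by
    have e : (fun a : F ⟶ Y => θ ≫ T.map a) = (fun f => θ₀ ≫ S.map f) ∘
        ((DCoh.sheafHomAdj F).homEquiv (Coh.structureModule X) Y) ∘
          (tensorUnitIso F).homFromEquiv.symm := by
      funext a
      show (θ₀ ≫ S.map η) ≫ S.map ((DCoh.sheafHom F).map a) =
        θ₀ ≫ S.map ((DCoh.sheafHomAdj F).homEquiv _ Y ((tensorUnitIso F).hom ≫ a))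
      exact (Category.assoc _ _ _).trans (congrArg (θ₀ ≫ ·) ((S.map_comp _ _).symm.trans
        (congrArg S.map ((DCoh.sheafHomAdj F).homEquiv_naturality_right (tensorUnitIso F).hom a).symm)))
    rw [e]
    exact (hθ₀ _).comp ((Equiv.bijective _).comp (Equiv.bijective _))
  have hI : ∀ I : X.Modules, Injective I → ∀ q : ℕ, Subsingleton (Ext
      ((constantSheaf (Opens.grothendieckTopology X) AddCommGrpCat.{u}).obj
        (AddCommGrpCat.of (ULift.{u} ℤ))) (T.obj I) (q + 1)) := fun I hI q =>
    subsingleton_HH_injective _ (injective_sheafHom hF I hI) q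
  let Φ : Ext F M j →ₗ[k] Coh.HH X ((DCoh.sheafHom F).obj M) j :=
    { toFun := extMap T θ M j
      map_add' := map_add _
      map_smul' := fun a x => by
        have ha : a • 𝟙 M = Formal.smulModΓ M (Coh.toGlobal (X ↘ Spec (CommRingCat.of k)) a) :=
          KLin.smul_id M a
        rw [Ext.smul_eq_comp_mk₀, extMap_comp_mk₀, ha]
        show (extMap T θ M j x).comp (Ext.mk₀ (S.map ((DCoh.sheafHom F).map
          (Formal.smulModΓ M (Coh.toGlobal (X ↘ Spec (CommRingCat.of k)) a))))) (add_zero j) = _
        rw [sheafHom_map_smulModΓ]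
        rfl }
  exact ⟨LinearEquiv.ofBijective Φ (extMap_bijective T θ hθ hI j M)⟩

end Groth.Agent.ExtHom
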