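import Groth.Agent.InjMod.Hom
import Groth.Agent.InjMod.HomRestr
import Groth.Agent.KFlat.TensorLocFree
import Groth.Prelude.Def_DCoh4
import Groth.Prelude.Def_FlatMod2

/-!
# Exactness of the internal Hom out of a finite locally free module
-/

universe u

open CategoryTheory CategoryTheory.Limits AlgebraicGeometry

noncomputable section

namespace Groth.Agent.ExtHom

/-- A functor which is a retract of finitely many copies of the identity preserves epimorphisms. -/
theorem preservesEpimorphisms_of_decomp {A : Type*} [Category A] [Preadditive A] {ι : Type*}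
    [Fintype ι] (R : A ⥤ A) (p : ι → (R ⟶ 𝟭 A)) (i : ι → (𝟭 A ⟶ R))
    (h : ∑ j, p j ≫ i j = 𝟙 R) : R.PreservesEpimorphisms := by
  refine ⟨fun {Q Q'} g hg => Preadditive.epi_of_cancel_zero _ fun {C} t ht => ?_⟩
  have e : ∑ j, (p j).app Q' ≫ (i j).app Q' ≫ t = t := by
    have h' := congrArg (fun α : R ⟶ R => α.app Q' ≫ t) h
    simpa [NatTrans.app_sum, Preadditive.sum_comp] using h'
  rw [← e]
  refine Finset.sum_eq_zero fun j _ => ?_
  have hz : (i j).app Q' ≫ t = 0 := by
    rw [← cancel_epi g, comp_zero]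
    refine Eq.trans (((i j).naturality_assoc g t)) ?_
    rw [ht, comp_zero]
  rw [hz, comp_zero]

/-- Passing to mates is additive. -/
theorem conjugateEquiv_add {C D : Type*} [Category C] [Category D] [Preadditive C] [Preadditive D]
    {L₁ L₂ : C ⥤ D} {R₁ R₂ : D ⥤ C} (a₁ : L₁ ⊣ R₁) (a₂ : L₂ ⊣ R₂) [R₂.Additive]
    (α β : L₂ ⟶ L₁) :
    conjugateEquiv a₁ a₂ (α + β) = conjugateEquiv a₁ a₂ α + conjugateEquiv a₁ a₂ β := by
  ext X
  simp [conjugateEquiv_apply_app, Functor.map_add]

variable {X : Scheme.{u}}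

theorem unitTensor_natural {N N' : ModSite.Mod X.sheaf} (f : N ⟶ N') :
    ((ModSite.tensorBi X.sheaf).obj (SheafOfModules.unit (ModSite.ringSh X.sheaf))).map f ≫
        (KFlat.TensorLocFree.unitTensorIso (X := X) N').hom =
      (KFlat.TensorLocFree.unitTensorIso (X := X) N).hom ≫ f := by
  have e := congrArg (ModSite.shPre X.sheaf).map
    (MonoidalCategory.leftUnitor_naturality ((ModSite.toPre X.sheaf).map f))
  rw [Functor.map_comp, Functor.map_comp] at e
  have c := (KFlat.preAdj X.sheaf).counit.naturality f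
  refine (Category.assoc _ _ _).symm.trans ((congrArg (· ≫ _) e).trans ?_)
  exact (Category.assoc _ _ _).trans ((congrArg (_ ≫ ·) c).trans (Category.assoc _ _ _).symm)

/-- `O ⊗ -` is the identity. -/
def unitTensorNatIso : (DCoh.tensorBi (X := X)).obj (Coh.structureModule X) ≅ 𝟭 X.Modules :=
  NatIso.ofComponents (fun N => KFlat.TensorLocFree.unitTensorIso N)
    (fun f => unitTensor_natural f)

open Classical in
theorem exists_decomp_sheafHom_free (n : ℕ) [DCoh.HasSheafHom (FlatMod.freeMod X n)] :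
    ∃ (p : Fin n → (DCoh.sheafHom (FlatMod.freeMod X n) ⟶ 𝟭 X.Modules))
      (i : Fin n → (𝟭 X.Modules ⟶ DCoh.sheafHom (FlatMod.freeMod X n))),
      ∑ j, p j ≫ i j = 𝟙 (DCoh.sheafHom (FlatMod.freeMod X n)) := by
  let B := DCoh.tensorBi (X := X)
  let adj := DCoh.sheafHomAdj (FlatMod.freeMod X n)
  have : (DCoh.sheafHom (FlatMod.freeMod X n)).Additive := adj.right_adjoint_additive
  let M : Fin n → X.Modules := fun _ => Coh.structureModule X
  let a : Fin n → (𝟭 X.Modules ⟶ B.obj (∐ M)) := fun j =>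
    unitTensorNatIso.inv ≫ B.map (Sigma.ι M j)
  let b : Fin n → (B.obj (∐ M) ⟶ 𝟭 X.Modules) := fun j =>
    B.map (Sigma.π M j) ≫ unitTensorNatIso.hom
  have hab : ∑ j, b j ≫ a j = 𝟙 (B.obj (∐ M)) := by
    have hsum : ∑ j, Sigma.π M j ≫ Sigma.ι M j = 𝟙 _ := by
      refine Sigma.hom_ext _ _ fun j => ?_
      rw [Preadditive.comp_sum, Category.comp_id, Finset.sum_eq_single j]
      · simp
      · intro j' _ hne
        rw [Sigma.ι_π_of_ne_assoc M hne.symm, zero_comp]
      · simp
    rw [← B.map_id, ← hsum, Functor.map_sum]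
    refine Finset.sum_congr rfl fun j _ => ?_
    simp [a, b]
  let Φ : (B.obj (∐ M) ⟶ B.obj (∐ M)) →+
      (DCoh.sheafHom (FlatMod.freeMod X n) ⟶ DCoh.sheafHom (FlatMod.freeMod X n)) :=
    AddMonoidHom.mk' (conjugateEquiv adj adj) (conjugateEquiv_add adj adj)
  refine ⟨fun j => conjugateEquiv adj Adjunction.id (a j),
    fun j => conjugateEquiv Adjunction.id adj (b j), ?_⟩
  have h := (map_sum Φ (fun j => b j ≫ a j) Finset.univ).symm.trans (congrArg Φ hab)
  refine Eq.trans (Finset.sum_congr rfl fun j _ => ?_) (h.trans (conjugateEquiv_id adj))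
  exact conjugateEquiv_comp adj Adjunction.id adj (a j) (b j)

theorem preservesEpimorphisms_sheafHom_free (n : ℕ) [DCoh.HasSheafHom (FlatMod.freeMod X n)] :
    (DCoh.sheafHom (FlatMod.freeMod X n)).PreservesEpimorphisms := by
  obtain ⟨p, i, h⟩ := exists_decomp_sheafHom_free (X := X) n
  exact preservesEpimorphisms_of_decomp _ p i h

/-- Epimorphisms of modules are detected on an open cover. -/
theorem epi_of_restrict {M N : X.Modules} (φ : M ⟶ N)
    (h : ∀ x : X, ∃ U : X.Opens, x ∈ U ∧ Epi ((Scheme.Modules.restrictFunctor U.ι).map φ)) :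
    Epi φ := by
  refine Preadditive.epi_of_cancel_zero _ fun {C} t ht => ?_
  choose U hxU hU using h
  refine Scheme.Modules.hom_ext _ _ fun V => ?_
  ext s
  have h0 : ∀ (W : X.Opens) (x : X), W ≤ U x → t.app W = 0 := by
    intro W x hW
    have := hU x
    have e : (Scheme.Modules.restrictFunctor (U x).ι).map t = 0 := by
      rw [← cancel_epi ((Scheme.Modules.restrictFunctor (U x).ι).map φ), ← Functor.map_comp, ht,
        comp_zero]
      exact Functor.map_zero _ _ _
    have e' : t.app ((U x).ι ''ᵁ ((U x).ι ⁻¹ᵁ W)) = 0 :=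
      congrArg (fun f => Scheme.Modules.Hom.app f ((U x).ι ⁻¹ᵁ W)) e
    rwa [Scheme.Hom.image_preimage_eq_opensRange_inf, Scheme.Opens.opensRange_ι,
      inf_eq_right.2 hW] at e'
  refine TopCat.Sheaf.eq_of_locally_eq' ⟨C.presheaf, C.isSheaf⟩ (fun x : V => V ⊓ U x.1) V
    (fun x => homOfLE inf_le_left)
    (fun y hy => TopologicalSpace.Opens.mem_iSup.2 ⟨⟨y, hy⟩, hy, hxU y⟩) _ _ fun x => ?_
  have n := congr($(t.mapPresheaf.naturality (homOfLE (inf_le_left : V ⊓ U x.1 ≤ V)).op) s)
  refine n.symm.trans ?_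
  change t.app (V ⊓ U x.1) _ = _
  rw [h0 _ x.1 inf_le_right]
  simp

/-- The internal Hom commutes with restriction, for the tensor product with the module on the left. -/
def sheafHomRestrictIso (U : X.Opens) (F : X.Modules) [DCoh.HasSheafHom F]
    [DCoh.HasSheafHom (F.restrict U.ι)] :
    DCoh.sheafHom F ⋙ Scheme.Modules.restrictFunctor U.ι ≅
      Scheme.Modules.restrictFunctor U.ι ⋙ DCoh.sheafHom (F.restrict U.ι) :=
  have : ModSite.HasSheafHom (O := X.sheaf) F := KFlat.hasSheafHom X.sheaf F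
  have : ModSite.HasSheafHom (O := (U : Scheme.{u}).sheaf) (F.restrict U.ι) :=
    KFlat.hasSheafHom (U : Scheme.{u}).sheaf (F.restrict U.ι)
  Functor.isoWhiskerRight (InjMod.dcohHomIso F) _ ≪≫ InjMod.sheafHomRestrIso U F ≪≫
    Functor.isoWhiskerLeft _ (InjMod.dcohHomIso (F.restrict U.ι)).symm

/-- `ℋom(F, -)` preserves epimorphisms for `F` finite locally free. -/
theorem preservesEpimorphisms_sheafHom {F : X.Modules} (hF : FlatMod.IsFinLocFree F)
    [DCoh.HasSheafHom F] : (DCoh.sheafHom F).PreservesEpimorphisms := by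
  refine ⟨fun {M N} g hg => epi_of_restrict _ fun x => ?_⟩
  obtain ⟨U, n, hx, ⟨e⟩⟩ := hF x
  refine ⟨U, hx, ?_⟩
  have := KFlat.hasSheafHom_scheme (F.restrict U.ι)
  have := KFlat.hasSheafHom_scheme (FlatMod.freeMod (U : Scheme.{u}) n)
  have h₁ := preservesEpimorphisms_sheafHom_free (X := (U : Scheme.{u})) n
  let c : DCoh.sheafHom F ⋙ Scheme.Modules.restrictFunctor U.ι ≅
      Scheme.Modules.restrictFunctor U.ι ⋙ DCoh.sheafHom (FlatMod.freeMod (U : Scheme.{u}) n) :=
    sheafHomRestrictIso U F ≪≫ Functor.isoWhiskerLeft _ ((DCoh.sheafHomAdj _).rightAdjointUniq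
      ((DCoh.sheafHomAdj _).ofNatIsoLeft ((DCoh.tensorBi (X := (U : Scheme.{u}))).mapIso e).symm))
  have : (Scheme.Modules.restrictFunctor U.ι).PreservesEpimorphisms :=
    Functor.preservesEpimorphisms_of_adjunction (Scheme.Modules.restrictAdjunction U.ι)
  have h₂ : Epi ((Scheme.Modules.restrictFunctor U.ι).map g) := inferInstance
  have h₃ : Epi ((Scheme.Modules.restrictFunctor U.ι ⋙
      DCoh.sheafHom (FlatMod.freeMod (U : Scheme.{u}) n)).map g) :=
    h₁.preserves ((Scheme.Modules.restrictFunctor U.ι).map g)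
  exact (MorphismProperty.epimorphisms _).arrow_mk_iso_iff
    (((Functor.mapArrowFunctor _ _).mapIso c).app (Arrow.mk g)) |>.2 h₃

theorem additive_sheafHom (F : X.Modules) [DCoh.HasSheafHom F] : (DCoh.sheafHom F).Additive :=
  (DCoh.sheafHomAdj F).right_adjoint_additive

theorem preservesFiniteLimits_sheafHom (F : X.Modules) [DCoh.HasSheafHom F] :
    PreservesFiniteLimits (DCoh.sheafHom F) :=
  (DCoh.sheafHomAdj F).rightAdjoint_preservesLimits.{0, 0}.preservesFiniteLimits

theorem preservesFiniteColimits_sheafHom {F : X.Modules} (hF : FlatMod.IsFinLocFree F)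
    [DCoh.HasSheafHom F] : PreservesFiniteColimits (DCoh.sheafHom F) := by
  have := additive_sheafHom F
  have := preservesFiniteLimits_sheafHom F
  have := preservesEpimorphisms_sheafHom hF
  have := Functor.preservesHomology_of_preservesEpis_and_kernels (DCoh.sheafHom F)
  exact Functor.preservesFiniteColimits_of_preservesHomology _

/-- `ℋom(F, -)` preserves injective modules for `F` finite locally free. -/
theorem injective_sheafHom {F : X.Modules} (hF : FlatMod.IsFinLocFree F) [DCoh.HasSheafHom F]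
    (I : X.Modules) (hI : Injective I) : Injective ((DCoh.sheafHom F).obj I) := by
  have : ((DCoh.tensorBi (X := X)).obj F).PreservesMonomorphisms := by
    refine ⟨fun {A B} f hf => ?_⟩
    have h := ChgRings.mono_tensR_map hF f
    exact (MorphismProperty.monomorphisms _).arrow_mk_iso_iff
      (((Functor.mapArrowFunctor _ _).mapIso ((KFlat.tensorBiFlipIso X.sheaf).app F)).app
        (Arrow.mk f)) |>.1 h
  exact (DCoh.sheafHomAdj F).map_injective I hI

end Groth.Agent.ExtHom
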