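import Groth.Agent.ExtHom.Exact
import Groth.Agent.PerfTri.Bounded
import Groth.Agent.ProjTwist.Pn.Finite
import Groth.Agent.ProperFin.Projective

/-!
# `ℋom(F, M)` is coherent for `F` finite locally free and `M` coherent
-/

universe u

open CategoryTheory CategoryTheory.Limits AlgebraicGeometry

noncomputable section

namespace Groth.Agent.ExtHom

variable {X : Scheme.{u}}

/-- Retracts of coherent modules are coherent. -/
theorem isCoh_of_retract [IsLocallyNoetherian X] {M N : X.Modules} (i : M ⟶ N) (r : N ⟶ M)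
    (h : i ≫ r = 𝟙 M) (hN : Coh.IsCoh N) : Coh.IsCoh M := by
  have hk : kernel.ι (r ≫ i - 𝟙 N) ≫ (r ≫ i - 𝟙 N) = 0 := kernel.condition _
  rw [Preadditive.comp_sub, sub_eq_zero, Category.comp_id] at hk
  refine CohDev.isCoh_of_iso ?_ (CohDev.isCoh_kernel (r ≫ i - 𝟙 N) hN hN.1)
  exact
    { hom := kernel.ι _ ≫ r
      inv := kernel.lift _ i (by rw [Preadditive.comp_sub, reassoc_of% h, Category.comp_id, sub_self])
      hom_inv_id := by
        rw [← cancel_mono (kernel.ι (r ≫ i - 𝟙 N)), Category.assoc, kernel.lift_ι, Category.assoc,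
          Category.id_comp, hk]
      inv_hom_id := by rw [← Category.assoc, kernel.lift_ι, h] }

open Classical in
theorem isCoh_sheafHom_free [IsLocallyNoetherian X] (n : ℕ)
    [DCoh.HasSheafHom (FlatMod.freeMod X n)] {M : X.Modules} (hM : Coh.IsCoh M) :
    Coh.IsCoh ((DCoh.sheafHom (FlatMod.freeMod X n)).obj M) := by
  obtain ⟨p, i, h⟩ := exists_decomp_sheafHom_free (X := X) n
  let N : ULift.{u} (Fin n) → X.Modules := fun _ => M
  refine isCoh_of_retract (N := ∐ N) (∑ j : ULift.{u} (Fin n), (p j.down).app M ≫ Sigma.ι N j)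
    (Sigma.desc fun j => (i j.down).app M) ?_ (ProjTwist.Pn.isCoh_sigma N fun _ => hM)
  rw [Preadditive.sum_comp]
  have h' := congrArg (fun α => NatTrans.app α M) h
  simp only [NatTrans.app_sum, NatTrans.comp_app, NatTrans.id_app] at h'
  refine Eq.trans ?_ h'
  exact Fintype.sum_equiv Equiv.ulift _ _ fun j =>
    (Category.assoc _ _ _).trans (congrArg ((p j.down).app M ≫ ·) (Sigma.ι_desc _ _))

/-- `ℋom(F, M)` is coherent. -/
theorem isCoh_sheafHom [IsLocallyNoetherian X] {F M : X.Modules} (hF : FlatMod.IsFinLocFree F)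
    [DCoh.HasSheafHom F] (hM : Coh.IsCoh M) : Coh.IsCoh ((DCoh.sheafHom F).obj M) := by
  choose U n hx e using hF
  refine PerfTri.Bounded.isCoh_of_cover U (TopologicalSpace.IsOpenCover.mk (top_le_iff.mp fun x _ =>
    TopologicalSpace.Opens.mem_iSup.mpr ⟨x, hx x⟩)) _ fun x => ?_
  have := KFlat.hasSheafHom_scheme (F.restrict (U x).ι)
  have := KFlat.hasSheafHom_scheme (FlatMod.freeMod (U x : Scheme.{u}) (n x))
  let c : DCoh.sheafHom F ⋙ Scheme.Modules.restrictFunctor (U x).ι ≅
      Scheme.Modules.restrictFunctor (U x).ι ⋙ DCoh.sheafHom (FlatMod.freeMod (U x : Scheme.{u}) (n x)) :=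
    sheafHomRestrictIso (U x) F ≪≫ Functor.isoWhiskerLeft _ ((DCoh.sheafHomAdj _).rightAdjointUniq
      ((DCoh.sheafHomAdj _).ofNatIsoLeft
        ((DCoh.tensorBi (X := (U x : Scheme.{u}))).mapIso (e x).some).symm))
  exact CohDev.isCoh_of_iso (c.app M).symm (isCoh_sheafHom_free (n x)
    (ProperFin.isCoh_restrict (U x).ι hM))

end Groth.Agent.ExtHom
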